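import Cfsg.Agent.H62.EbVK
import Cfsg.Agent.H694.EB.TwoP
import Cfsg.Agent.H568.EB.RegCount
import Cfsg.Agent.H694.EB.BTypes

/-!
# The action of an automorphism preserving `U` on the subgroups `V_K`

`VK_perm` (after helper62's `VK_stable`): the type permutation of the automorphism.
-/

set_option autoImplicit false
set_option linter.unusedSectionVars false

namespace Cfsg.Agent.H422.EB

open CoxeterSystem Cfsg Cfsg.Agent.H694.EB Cfsg.Agent.ChevalleyStructure.CoxeterGeom Cfsg.Agent.Tits.Roots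
  Cfsg.Agent.Tits.Core Cfsg.Agent.Tits.RootComb Cfsg.Agent.Nodes.Comb Cfsg.Agent.Nodes.Reps Cfsg.Agent.Nodes.BNOf
  Cfsg.Agent.Nodes Cfsg.Agent.Nodes.Bruhat
open Cfsg.Agent.H694 Cfsg.Agent.FixBN Cfsg.Agent.FixBN.TwOfBN Cfsg.Agent.OddHalf.Table.AutBldg
  Cfsg.Agent.LieExceptional.BNPairCore Cfsg.Agent.Tits.OfBN Cfsg.Agent.Schreier.BNSch Cfsg.Agent.Tits.OppRes
open Cfsg.Agent.H62.EbVK

variable {I W Y : Type*} [Fintype I] [DecidableEq I] [Group W] [Group Y] {M : CoxeterMatrix I}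
  {cs : CoxeterSystem M W} {A : I → I → ℤ} {h : IsCartan M A} {p : ℕ} {T : Subgroup Y} {n : I → Y}
  {X : (I → ℤ) → Subgroup Y}

theorem VK_perm [Finite W] [Finite Y] [IsSimpleGroup Y] (R : RGD cs h 2 T n X) (hX : RGDLib.G1 cs h X = ⊤)
    (hgen : RGD.B cs h T X ⊔ NN cs R.nsys = ⊤) (α : Y ≃* Y)
    (hα : (RGD.Sup X (RGD.Pos cs h)).map α.toMonoidHom = RGD.Sup X (RGD.Pos cs h)) :
    ∃ σ : I ≃ I, (∀ i j, M (σ i) (σ j) = M i j) ∧
      (∀ (J : Set I) x, x ∈ PJ (R.bnPair hgen) (Equiv.ofInjective n R.n_injective) J ↔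
        α x ∈ PJ (R.bnPair hgen) (Equiv.ofInjective n R.n_injective) (σ '' J)) ∧
      ∀ K : Set I, σ '' K = K → (VK cs h X K).map α.toMonoidHom = VK cs h X K := by
  obtain ⟨hN, cs', hcs⟩ := Cfsg.Agent.Omega.ML.Ex.Typ.bnType R hgen
  set P := R.bnPair hgen with hP
  set e := Equiv.ofInjective n R.n_injective with he
  set U := RGD.Sup X (RGD.Pos cs h) with hU
  have hαU : ∀ u, α u ∈ U ↔ u ∈ U := by
    intro u
    constructor
    · intro h1
      rw [← hα] at h1
      obtain ⟨v, hv, h2⟩ := h1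
      have h3 : v = u := α.injective h2
      rwa [← h3]
    · intro h1
      rw [← hα]
      exact ⟨u, h1, rfl⟩
  have hKeep : Keep P (α : MulAut Y) := by
    intro b
    change α b ∈ RGD.B cs h T X ↔ b ∈ RGD.B cs h T X
    rw [← normalizer_U R hX, Subgroup.mem_normalizer_iff, Subgroup.mem_normalizer_iff]
    constructor
    · intro h1 u
      have h2 := h1 (α u)
      rw [← map_inv, ← map_mul, ← map_mul] at h2
      exact (hαU u).symm.trans (h2.trans (hαU _))
    · intro h1 u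
      have h2 := h1 (α.symm u)
      have h3 : u = α (α.symm u) := (α.apply_symm_apply u).symm
      rw [h3, ← map_inv, ← map_mul, ← map_mul]
      exact (hαU _).trans (h2.trans (hαU _).symm)
  obtain ⟨σ, hσM, hPJ⟩ := exists_perm e cs' hcs hKeep
  refine ⟨σ, hσM, hPJ, fun K hσK => ?_⟩
  -- `α V_i = V_(σ i)`
  have hV : ∀ i u, u ∈ RGD.Sup X (RGD.PosNe cs h i) →
      α u ∈ RGD.Sup X (RGD.PosNe cs h (σ i)) := by
    intro i u hu
    rw [mem_V_iff R hgen] at hu ⊢
    refine ⟨(hαU u).2 hu.1, fun g hg => ?_⟩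
    have h1 := (hPJ {i} (α.symm g)).2 (by
      rw [α.apply_symm_apply, Set.image_singleton]
      exact hg)
    have h2 := (hαU _).2 (hu.2 _ h1)
    rwa [map_mul, map_mul, map_inv, α.apply_symm_apply] at h2
  have hle : (VK cs h X K).map α.toMonoidHom ≤ VK cs h X K := by
    rintro _ ⟨u, hu, rfl⟩
    have hu' : u ∈ VK cs h X K := hu
    rw [mem_VK_iff R] at hu'
    change α u ∈ _
    rw [mem_VK_iff R]
    refine ⟨(hαU u).2 hu'.1, fun j hj => ?_⟩
    rw [← hσK] at hj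
    obtain ⟨i, hi, rfl⟩ := hj
    exact hV i u (hu'.2 i hi)
  refine Subgroup.eq_of_le_of_card_ge hle ?_
  rw [Subgroup.card_map_of_injective α.injective]

end Cfsg.Agent.H422.EB
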