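import Cfsg.Agent.H422.EB.TwoG
import Cfsg.Agent.H422.EB.VK
import Cfsg.Agent.H694.EB.Wrap
import Cfsg.Agent.KFacts.RgdAutFacts
import Cfsg.Agent.Lib.PermRealization

/-!
# TEAM EB: groups of Lie type of rank two in characteristic two

* `evenJ_rank2`: a simple group with a root group datum of rank two and characteristic two, all characters outside
  the principal 2-block of defect zero: if the number of regular elements for `K = {i}` is odd and
  `|W_i\W/W_i| + |W_i\W/W_j|` is odd, then `EvenJ`.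
* `evenJ_B2`: type `B₂`.
-/

set_option autoImplicit false
set_option linter.unusedSectionVars false
set_option linter.style.haveILetI false

namespace Cfsg.Agent.H422.EB

open CoxeterSystem Cfsg Cfsg.Agent.H694.EB Cfsg.Agent.ChevalleyStructure.CoxeterGeom Cfsg.Agent.Tits.Roots
  Cfsg.Agent.Tits.Core Cfsg.Agent.Tits.RootComb Cfsg.Agent.Nodes.Comb Cfsg.Agent.Nodes.Reps Cfsg.Agent.Nodes.BNOf
  Cfsg.Agent.Nodes Cfsg.Agent.Nodes.Bruhat
open Cfsg.Agent.H694 Cfsg.Agent.FixBN Cfsg.Agent.FixBN.TwOfBN Cfsg.Agent.OddHalf.Table.AutBldg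
  Cfsg.Agent.LieExceptional.BNPairCore Cfsg.Agent.Tits.OfBN Cfsg.Agent.Schreier.BNSch Cfsg.Agent.Tits.OppRes
open Cfsg.Agent.H62.EbVK Cfsg.Agent.H684.EB Cfsg.Agent.H610.EB Cfsg.Agent.H611.EB Cfsg.Agent.Characters
open Cfsg.Agent.Characters.Core
open Cfsg.Agent.Blocks.Local Cfsg.Agent.Blocks.Basic
open Cfsg.Agent.Omega.ML.Ex.Typ (HasSplitT HasRGDT)
open scoped ComplexConjugate

universe u

theorem DZ.of_equiv {S T : Type u} [Group S] [Group T] [Finite S] (e : S ≃* T) (hdz : DZ S) : DZ T := by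
  classical
  haveI : Fintype S := Fintype.ofFinite _
  intro iT M' hM' χ hχ
  have hirr : IsIrrCharacter S (fun s => (χ : T → ℂ) (e s)) :=
    isIrr_comp e.toMonoidHom e.surjective χ.2
  have h1 := hdz M' hM' ⟨fun s => (χ : T → ℂ) (e s), hirr⟩ (fun h => hχ
    ((H611.EB.mem_comp_equiv e χ.2 hirr).1 h))
  refine ⟨fun g hg => ?_, ?_⟩
  · have h2 := h1.1 (e.symm g) (by rwa [MulEquiv.orderOf_eq])
    have h3 : (χ : T → ℂ) (e (e.symm g)) = 0 := h2
    rwa [MulEquiv.apply_symm_apply] at h3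
  · rw [← Nat.card_congr e.toEquiv, h1.2]
    have h3 : charDegree (fun s => (χ : T → ℂ) (e s)) = charDegree (χ : T → ℂ) := by
      rw [charDegree_def, charDegree_def, map_one]
    show (charDegree (fun s => (χ : T → ℂ) (e s))).factorization 2 = _
    rw [h3]

/-- The permutations of a set with two elements. -/
theorem perm_two (σ : Fin 2 ≃ Fin 2) (i j : Fin 2) (hij : i ≠ j) : (σ i = i ∧ σ j = j) ∨ (σ i = j ∧ σ j = i) := by
  have h1 : ∀ a b i j : Fin 2, i ≠ j → a ≠ b → (a = i ∧ b = j) ∨ (a = j ∧ b = i) := by decide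
  exact h1 (σ i) (σ j) i j hij (fun h => hij (σ.injective h))

theorem disjoint_cls {K : Type u} [Group K] [Finite K] {P : Cfsg.BNPair K} {I : Type*} (e : I ≃ P.S)
    {J L : Set I} (hJL : J ≠ L) : Disjoint (cls (PJ P e J)) (cls (PJ P e L)) := by
  rw [Set.disjoint_left]
  rintro H ⟨g, rfl⟩ ⟨t, ht⟩
  have h1 : (PJ P e J).map (MulAut.conj (t⁻¹ * g)).toMonoidHom = PJ P e L := by
    rw [← map_conj_conj, ← ht, map_conj_conj, inv_mul_cancel, H694.map_conj_one]
  have h2 := Cfsg.Agent.S0313.result P (PJ_sub e J) (PJ_sub e L) _ h1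
  have h3 := Cfsg.Agent.S0314.result P (PJ_sub e J) (PJ_sub e L) h2
  have hinj : Function.Injective (fun i => (e i : K)) := fun i j h =>
    e.injective (Subtype.ext h)
  exact hJL (hinj.image_injective h3)

theorem map_cls {K : Type u} [Group K] (α : K ≃* K) (A B : Subgroup K)
    (h : ∃ g : K, A.map α.toMonoidHom = B.map (MulAut.conj g).toMonoidHom) :
    ∀ H ∈ cls A, H.map α.toMonoidHom ∈ cls B := by
  obtain ⟨g, hg⟩ := h
  rintro _ ⟨t, rfl⟩
  refine ⟨α t * g, ?_⟩
  rw [← map_conj_conj, ← hg, Subgroup.map_map, Subgroup.map_map]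
  congr 1
  ext x
  simp

section swap

variable {G : Type u} [Group G] [Fintype G] {Mi : Ideal AlgInt} {k : ℕ}
variable (N J : Subgroup G) [hN' : N.Normal] [hJ' : J.Normal] [Fintype N] (hNJ : N ≤ J)
variable {P : Cfsg.BNPair N} [hN : ((P.B ⊓ P.N).subgroupOf P.N).Normal] {M : CoxeterMatrix (Fin 2)}
  (e : Fin 2 ≃ P.S) (cs : CoxeterSystem M (WP P))
  (hcs : ∀ i, cs.simple i = QuotientGroup.mk (⟨(e i : N), P.subset (e i).2⟩ : P.N))

include hNJ hcs in
/-- Some element of `G` exchanges the types. -/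
theorem concl_swap (hM : IsPModular 2 Mi) (hodd : Odd (N.relIndex J))
    (hidx : ∃ j : ℕ, J.index = 2 ^ j) (hk : IsK G k) (hdz : DZ N) {U : Subgroup N} (S : Split P 2 U)
    {i j : Fin 2} (hij : i ≠ j)
    (hall : ¬ ∀ g : G, ∀ H ∈ cls (PJ P e {i}), cmap N g H ∈ cls (PJ P e {i}))
    (hdbl : Odd (Nat.card (DoubleCoset.Quotient (WJ cs {i} : Set (WP P)) (WJ cs {i} : Set (WP P))) +
        Nat.card (DoubleCoset.Quotient (WJ cs {i} : Set (WP P)) (WJ cs {j} : Set (WP P))))) :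
    Concl Mi G N k := by
  classical
  haveI : Fact (Nat.Prime 2) := ⟨Nat.prime_two⟩
  have hIJ : ({i} : Set (Fin 2)) ≠ {j} := fun h => hij (Set.singleton_injective h)
  have hself : ∀ L : Subgroup N, L ∈ cls L := fun L => ⟨1, (H694.map_conj_one L)⟩
  refine concl_of_two_odd N J hNJ hM hodd hidx hk (cls (PJ P e {i})) (cls (PJ P e {j})) (disjoint_cls e hIJ)
    ⟨_, hself _⟩ (fun g H hH => conj_mem_cls hH g) (fun g => ?_) hall ?_ ?_
  · obtain ⟨σ, -, h⟩ := exists_type_perm e cs hcs S (MulAut.conjNormal g : N ≃* N)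
    have hg := h {i}
    have ht := h {j}
    rw [Set.image_singleton] at hg ht
    rcases perm_two σ i j hij with ⟨h1, h2⟩ | ⟨h1, h2⟩
    · rw [h1] at hg
      rw [h2] at ht
      exact Or.inl ⟨map_cls _ _ _ hg, map_cls _ _ _ ht⟩
    · rw [h1] at hg
      rw [h2] at ht
      exact Or.inr ⟨map_cls _ _ _ hg, map_cls _ _ _ ht⟩
  · intro φ h1 _
    refine inB0_two e cs hcs S hdz (Set.singleton_nonempty i) Mi hM φ ?_
    intro h2
    rw [h2] at h1
    exact absurd h1 (by decide)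
  · rw [card_pairRel (normalizer_PJ e {i}) (normalizer_PJ e {i}),
      card_pairRel (normalizer_PJ e {i}) (normalizer_PJ e {j}), card_double e cs hcs,
      card_double e cs hcs]
    exact hdbl

end swap

section data

variable {I W Y : Type*} [Fintype I] [DecidableEq I] [Group W] [Group Y] {M : CoxeterMatrix I}
  {cs : CoxeterSystem M W} {A : I → I → ℤ} {h : IsCartan M A} {p : ℕ} {T : Subgroup Y} {n : I → Y}
  {X : (I → ℤ) → Subgroup Y}

/-- The (B,N)-pair of a root group datum of characteristic two, with the action of the automorphisms. -/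
theorem exists_data [Nonempty I] [Finite W] [Finite Y] [IsSimpleGroup Y] (R : RGD cs h 2 T n X)
    (hX : RGDLib.G1 cs h X = ⊤) :
    ∃ (P : Cfsg.BNPair Y) (e : I ≃ P.S) (_ : ((P.B ⊓ P.N).subgroupOf P.N).Normal)
      (cs' : CoxeterSystem M (WP P)),
      (∀ i, cs'.simple i = QuotientGroup.mk (⟨(e i : Y), P.subset (e i).2⟩ : P.N)) ∧
      Split P 2 (RGD.Sup X (RGD.Pos cs h)) ∧
      ∀ α : Y ≃* Y, (RGD.Sup X (RGD.Pos cs h)).map α.toMonoidHom = RGD.Sup X (RGD.Pos cs h) →
        ∃ σ : I ≃ I, (∀ i j, M (σ i) (σ j) = M i j) ∧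
          (∀ (J : Set I) x, x ∈ PJ P e J ↔ α x ∈ PJ P e (σ '' J)) ∧
          ∀ K : Set I, σ '' K = K → (VK cs h X K).map α.toMonoidHom = VK cs h X K := by
  have hgen := RGDLib.rgd_gen_of_G1 R hX
  obtain ⟨hN, cs', hcs⟩ := Cfsg.Agent.Omega.ML.Ex.Typ.bnType R hgen
  obtain ⟨i⟩ := (inferInstance : Nonempty I)
  have hne : (R.bnPair hgen).S.Nonempty := ⟨n i, _, rfl⟩
  exact ⟨R.bnPair hgen, _, hN, cs', hcs, SplitRGD.split_of_rgd Nat.prime_two R hgen
    (Cfsg.Agent.Tits.OfBN.normalCore_eq_bot (R.bnPair hgen) hne), VK_perm R hX hgen⟩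

theorem index_U_odd [Finite W] [Finite Y] (R : RGD cs h 2 T n X) (hX : RGDLib.G1 cs h X = ⊤) :
    Odd (RGD.Sup X (RGD.Pos cs h)).index := by
  haveI : Fact (Nat.Prime 2) := ⟨Nat.prime_two⟩
  obtain ⟨Q, hQ⟩ := KFacts.RgdAutFacts.exists_sylow R (p := 2)
    (eq_top_iff.2 fun g _ => GG_top R hX g)
  rw [← hQ, ← Nat.not_even_iff_odd, even_iff_two_dvd]
  exact Q.not_dvd_index

theorem VK_ne [Finite W] (R : RGD cs h 2 T n X) (i : I) : VK cs h X {i} ≠ RGD.Sup X (RGD.Pos cs h) := by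
  intro hVU
  obtain ⟨x, hx, hx1⟩ : ∃ x ∈ X (sr i), x ≠ 1 := by
    by_contra hcon
    push Not at hcon
    have h1 : X (sr i) = ⊥ := by
      rw [eq_bot_iff]
      exact fun x hx => hcon x hx
    exact Nodes.Bruhat.X_ne_bot R (isRoot_sr cs h i) h1
  have h2 : x ∈ RGD.Sup X (RGD.Pos cs h) := RGD.le_Sup (X := X) (S := RGD.Pos cs h) ⟨isRoot_sr cs h i, sr_nonneg i⟩ hx
  rw [← hVU] at h2
  exact not_mem_V R hx hx1 (VK_le_V (Set.mem_singleton i) h2)

end data

section main

variable {G : Type u} [Group G] [Fintype G] {Mi : Ideal AlgInt} {k : ℕ}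
variable (N J : Subgroup G) [hN' : N.Normal] [hJ' : J.Normal] [Fintype N] [Fintype J] (hNJ : N ≤ J)
variable {W₀ : Type} [Group W₀] [Finite W₀] {M : CoxeterMatrix (Fin 2)} {cs₀ : CoxeterSystem M W₀}
  {A : Fin 2 → Fin 2 → ℤ} {h : IsCartan M A} {T : Subgroup N} {n : Fin 2 → N} {X : (Fin 2 → ℤ) → Subgroup N}

include hNJ in
theorem concl_rank2 [IsSimpleGroup N] (hM : IsPModular 2 Mi) (hodd : Odd (N.relIndex J))
    (hidx : ∃ j : ℕ, J.index = 2 ^ j) (hk : IsK G k) (hdz : DZ N)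
    (R : RGD cs₀ h 2 T n X) (hX : RGDLib.G1 cs₀ h X = ⊤) {i j : Fin 2} (hij : i ≠ j)
    (hreg : Odd (Nat.card {w : W₀ // Reg cs₀ {i} w}))
    (hdbl : ∀ (W : Type u) [Group W] [Finite W] (cs : CoxeterSystem M W),
      Odd (Nat.card (DoubleCoset.Quotient (WJ cs {i} : Set W) (WJ cs {i} : Set W)) +
        Nat.card (DoubleCoset.Quotient (WJ cs {i} : Set W) (WJ cs {j} : Set W)))) : Concl Mi G N k := by
  classical
  haveI : Fact (Nat.Prime 2) := ⟨Nat.prime_two⟩
  obtain ⟨P, e, hN, cs, hcs, S, hVP⟩ := exists_data R hX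
  have hIJ : ({i} : Set (Fin 2)) ≠ {j} := fun h => hij (Set.singleton_injective h)
  have hdis : Disjoint (cls (PJ P e {i})) (cls (PJ P e {j})) := disjoint_cls e hIJ
  have hself : ∀ L : Subgroup N, L ∈ cls L := fun L => ⟨1, (H694.map_conj_one L)⟩
  by_cases hall : ∀ g : G, ∀ H ∈ cls (PJ P e {i}), cmap N g H ∈ cls (PJ P e {i})
  · -- the types are preserved
    refine concl_of_two_rel N J hNJ hM hodd hidx hk hdz (RGD.Sup X (RGD.Pos cs₀ h)) (VK cs₀ h X {i})
      R.isPGroup_Upos (index_U_odd R hX) (VK_le_U {i}) (VK_ne R i) ?_ ?_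
    · intro g hg
      obtain ⟨σ, -, hσP, hσV⟩ := hVP (MulAut.conjNormal g : N ≃* N) hg
      refine hσV {i} ?_
      rw [Set.image_singleton]
      rcases perm_two σ i j hij with ⟨h1, -⟩ | ⟨h1, -⟩
      · rw [h1]
      · exfalso
        have h2 : cmap N g (PJ P e {i}) = PJ P e {j} := by
          have h3 : (PJ P e {i}).map (MulAut.conjNormal g : N ≃* N).toMonoidHom = PJ P e (σ '' {i}) := by
            ext x
            constructor
            · rintro ⟨y, hy, rfl⟩
              exact (hσP {i} y).1 hy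
            · intro hx
              refine ⟨(MulAut.conjNormal g : N ≃* N).symm x, ?_, ?_⟩
              · rw [SetLike.mem_coe, hσP {i}, MulEquiv.apply_symm_apply]
                exact hx
              · exact MulEquiv.apply_symm_apply _ x
          rw [Set.image_singleton, h1] at h3
          exact h3
        exact Set.disjoint_left.1 hdis (hall g _ (hself _)) (h2 ▸ hself _)
    · rw [Nat.odd_iff, card_VK R hX {i}, ← Nat.odd_iff]
      exact hreg
  · exact concl_swap N J hNJ e cs hcs hM hodd hidx hk hdz S hij hall (hdbl (WP P) cs)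

end main

/-- **Rank two in characteristic two.** -/
theorem evenJ_rank2 {K : Type u} [Group K] [Finite K] [IsSimpleGroup K] {M : CoxeterMatrix (Fin 2)}
    (hK : HasRGDT 2 M K) (hdz : DZ K) {i j : Fin 2} (hij : i ≠ j)
    (hreg : ∀ (W : Type) [Group W] [Finite W] (cs : CoxeterSystem M W), Odd (Nat.card {w : W // Reg cs {i} w}))
    (hdbl : ∀ (W : Type u) [Group W] [Finite W] (cs : CoxeterSystem M W),
      Odd (Nat.card (DoubleCoset.Quotient (WJ cs {i} : Set W) (WJ cs {i} : Set W)) +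
        Nat.card (DoubleCoset.Quotient (WJ cs {i} : Set W) (WJ cs {j} : Set W)))) : EvenJ K := by
  classical
  rintro G _ _ N _ _ ⟨f⟩ - J _ hNJ ho hi k hk Mi hM
  haveI : Fintype J := Fintype.ofFinite _
  haveI : IsSimpleGroup N := Lib.PermRealization.isSimpleGroup_of_mulEquiv f
  obtain ⟨A, h, T, n, X, hW, R, hX⟩ := hK.of_equiv f
  exact concl_rank2 N J hNJ hM ho hi hk (DZ.of_equiv f hdz) R hX hij (hreg M.Group M.toCoxeterSystem) hdbl

/-- The number of regular elements in type `B₂`. -/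
theorem reg_B2 {W : Type*} [Group W] [Finite W] (cs : CoxeterSystem (CoxeterMatrix.B 2) W) :
    Nat.card {w : W // Reg cs {1} w} = 1 := by
  have hy0 : phB 2 (0, true) = cB 2 := by decide
  have h2 := H568.EB.card_reg_model cs (TypeC.isCartan 2)
    (c := cB 2) (by decide) (K := {1}) (by
      intro i
      rw [Set.mem_singleton_iff]
      revert i
      decide) (phB 2) (phB_injective 2)
    (0, true) hy0 TypeC.sg phB_sg (rkB 2) (conn_B (le_refl 2))
  rw [h2]
  have h3 : ∀ y : Fin 2 × Bool, (∀ i ∈ ({1} : Set (Fin 2)), 0 < phB 2 y i) ↔ 0 < phB 2 y 1 := by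
    intro y
    simp
  rw [Nat.card_congr (Equiv.subtypeEquivRight h3), Nat.card_eq_fintype_card]
  decide

/-- **Type `B₂` in characteristic two**: `PSp₄(2^a)`, `PSU₄(2^a)`, `PSU₅(2^a)`. -/
theorem evenJ_B2 {K : Type u} [Group K] [Finite K] [IsSimpleGroup K] (hK : HasRGDT 2 (CoxeterMatrix.B 2) K)
    (hdz : DZ K) : EvenJ K := by
  refine evenJ_rank2 hK hdz (i := 1) (j := 0) (by decide) (fun W _ _ cs => by rw [reg_B2 cs]; decide) ?_
  intro W _ _ cs
  have h1 : {i : Fin 2 | cB 2 i = 0} = {1} := by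
    ext i
    show cB 2 i = 0 ↔ i = 1
    revert i
    decide
  have h2 : {i : Fin 2 | cB 2 i ≠ 0} = {0} := by
    ext i
    show cB 2 i ≠ 0 ↔ i = 0
    revert i
    decide
  obtain ⟨-, h3⟩ := parity_B (le_refl 2) cs
  have h4 := parity_B2 cs
  rw [card_double_comm] at h4
  rw [h1] at h3 h4
  rw [h2] at h4
  rw [h3, h4]
  decide

end Cfsg.Agent.H422.EB
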